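/- Part (B): `CL.DV.B.no_inv` is proved in `BMain`. -/
import Cfsg.Agent.INV.DV.BMain
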