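import Mathlib
import Cfsg.Agent.INV.DV.Clq
import Cfsg.Agent.S3099
import Cfsg.Agent.S0253
import Cfsg.Agent.CLAS.SLBasic
import Cfsg.Agent.REC.Basic
import Cfsg.Agent.SOLV.OddOrderCor

/-!
Finite groups acting faithfully on a two-dimensional space over a division ring: reductions.
-/

set_option autoImplicit false

namespace CL.DV

open Subgroup CL.FC Module
open scoped MatrixGroups

universe v

variable {G : Type v} [Group G] [Finite G]

theorem eq_one_of_center (hG : commutator G = ⊤) {p : ℕ} [Fact p.Prime] (P : Sylow p G)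
    (hP : IsMulCommutative (P : Subgroup G)) {g : G} (hg : g ∈ P) (hc : g ∈ center G) : g = 1 := by
  letI : CommGroup (P : Subgroup G) := { (inferInstance : Group (P : Subgroup G)) with mul_comm := hP.is_comm.comm }
  have e := MonoidHom.transfer_eq_pow (MonoidHom.id (P : Subgroup G)) g fun k x _ => by
    rw [mul_assoc, ← mem_center_iff.1 (pow_mem hc k), inv_mul_cancel_left]
  rw [MonoidHom.mem_ker.1 (Abelianization.commutator_subset_ker _ (hG ▸ mem_top g))] at e
  obtain ⟨n, hn⟩ := P.isPGroup' ⟨g, hg⟩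
  exact orderOf_eq_one_iff.1 (Nat.eq_one_of_dvd_coprimes
    (((Nat.Prime.coprime_iff_not_dvd Fact.out).2 P.not_dvd_index).pow_left n)
    (orderOf_dvd_of_pow_eq_one (congrArg Subtype.val hn))
    (orderOf_dvd_of_pow_eq_one (congrArg Subtype.val e).symm))

theorem exists_73 (h : Cfsg.IsNonsplitDoubleCover G (alternatingGroup (Fin 7))) :
    ∃ x y : G, x ^ 7 = 1 ∧ y ^ 3 = 1 ∧ y * x * y⁻¹ = x ^ 2 ∧ x ≠ 1 := by
  obtain ⟨h2, ⟨e⟩, -⟩ := h
  let π := e.toMonoidHom.comp (QuotientGroup.mk' (center G))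
  have s : Function.Surjective π := e.surjective.comp (QuotientGroup.mk'_surjective _)
  have k : ∀ g, π g = 1 → g ∈ center G ∧ g ^ 2 = 1 := fun g hg => by
    have hc : g ∈ center G := (QuotientGroup.eq_one_iff g).1 (e.injective (hg.trans (map_one e).symm))
    exact ⟨hc, congrArg Subtype.val (h2 ▸ pow_card_eq_one' : (⟨g, hc⟩ : center G) ^ 2 = 1)⟩
  obtain ⟨a, b, a7, b3, ab, a1⟩ : ∃ a b : alternatingGroup (Fin 7), a ^ 7 = 1 ∧ b ^ 3 = 1 ∧
      b * a * b⁻¹ = a ^ 2 ∧ a ≠ 1 :=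
    ⟨⟨finRotate 7, Equiv.Perm.mem_alternatingGroup.2 (by decide)⟩, ⟨Equiv.swap 1 4 * Equiv.swap 1 2 *
      (Equiv.swap 3 5 * Equiv.swap 3 6), Equiv.Perm.mem_alternatingGroup.2 (by decide)⟩,
      Subtype.ext (by decide), Subtype.ext (by decide), Subtype.ext (by decide),
      fun e => absurd (congrArg Subtype.val e) (by decide)⟩
  obtain ⟨x, rfl⟩ := s a
  obtain ⟨y, rfl⟩ := s b
  have x7 : (x ^ 8) ^ 7 = 1 := by
    rw [← pow_mul, show 8 * 7 = 7 * 2 * 4 from rfl, pow_mul, pow_mul, (k _ (by rw [map_pow, a7])).2, one_pow]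
  have ex : π (x ^ 8) = π x := by rw [map_pow, pow_succ, a7, one_mul]
  have ey : π (y ^ 4) = π y := by rw [map_pow, pow_succ, b3, one_mul]
  refine ⟨x ^ 8, y ^ 4, x7, by
    rw [← pow_mul, show 4 * 3 = 3 * 2 * 2 from rfl, pow_mul, pow_mul,
      (k (y ^ 3) (by rw [map_pow, b3])).2, one_pow],
    ?_, fun e => a1 (by rw [← ex, e, map_one])⟩
  obtain ⟨c, d⟩ := k (y ^ 4 * x ^ 8 * (y ^ 4)⁻¹ * ((x ^ 8) ^ 2)⁻¹) (by
    rw [map_mul, map_mul, map_mul, map_inv, map_inv, map_pow _ (x ^ 8), ex, ey, ab, mul_inv_cancel])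
  generalize x ^ 8 = u at *
  generalize y ^ 4 = w at *
  obtain ⟨z, hz⟩ : ∃ z, z = w * u * w⁻¹ * (u ^ 2)⁻¹ := ⟨_, rfl⟩
  rw [← hz] at c d
  have e1 : w * u * w⁻¹ = u ^ 2 * z := by rw [mem_center_iff.1 c, hz, inv_mul_cancel_right]
  have e2 := congrArg (· ^ 7) e1
  simp only [conj_pow, x7, mul_one, mul_inv_cancel] at e2
  rw [(show Commute (u ^ 2) z from mem_center_iff.1 c _).mul_pow, ← pow_mul, mul_comm 2, pow_mul, x7, one_pow,
    one_mul, show 7 = 2 * 3 + 1 from rfl, pow_succ, pow_mul, d, one_pow, one_mul] at e2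
  rw [e1, ← e2, mul_one]

/-- the conclusion -/
def Good (S : Type*) [Group S] : Prop :=
  ∃ (F : Type) (_ : Field F) (_ : Fintype F), (Fintype.card F = 5 ∨ Fintype.card F = 9) ∧
    Nonempty (S ≃* PSL(2, F))

/-- `f` maps onto a nonabelian simple group, and no proper subgroup does -/
structure Mn {S : Type v} [Group S] (f : G →* S) : Prop where
  simple : IsSimpleGroup S
  nc : ¬ IsMulCommutative S
  min : ∀ H : Subgroup G, H.map f = ⊤ → H = ⊤
  sj : Function.Surjective f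

namespace Mn

variable {S : Type v} [Group S] {f : G →* S} (m : Mn f)
include m

omit [Finite G]

theorem perf : commutator G = ⊤ := m.min _ (by
  have := m.simple
  rw [commutator_def, map_commutator, map_top_of_surjective f m.sj]
  exact ((inferInstance : (commutator S).Normal).eq_bot_or_eq_top).resolve_left fun e =>
    m.nc ⟨⟨fun a b => commutatorElement_eq_one_iff_mul_comm.1
      (mem_bot.1 (e ▸ commutator_mem_commutator (mem_top a) (mem_top b)))⟩⟩)

theorem le_ker (C : Subgroup G) [hn : C.Normal] (hC : C ≠ ⊤) : C ≤ f.ker :=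
  have := m.simple
  (map_eq_bot_iff C).1 ((hn.map f m.sj).eq_bot_or_eq_top.resolve_right fun e => hC (m.min C e))

theorem ker_ne : f.ker ≠ ⊤ := fun e => m.nc ⟨⟨fun a b => by
  obtain ⟨a, rfl⟩ := m.sj a
  rw [MonoidHom.mem_ker.1 (e ▸ mem_top a), one_mul, mul_one]⟩⟩

theorem iso {X : Type*} [Group X] [IsSimpleGroup X] (θ : G →* X) (hθ : Function.Surjective θ) :
    Nonempty (S ≃* X) := by
  have h1 : θ.ker ≤ f.ker := m.le_ker _ fun e => by
    obtain ⟨x, hx⟩ := exists_ne (1 : X)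
    obtain ⟨g, rfl⟩ := hθ x
    exact hx (MonoidHom.mem_ker.1 (e ▸ mem_top g))
  have h2 : f.ker ≤ θ.ker := (Subgroup.map_eq_bot_iff _).1
    (((inferInstance : f.ker.Normal).map θ hθ).eq_bot_or_eq_top.resolve_right fun e => m.ker_ne (by
      rw [← comap_map_eq_self h1, e, comap_top]))
  exact ⟨((QuotientGroup.quotientKerEquivOfSurjective f m.sj).symm.trans
    (QuotientGroup.quotientMulEquivOfEq (le_antisymm h2 h1))).trans
      (QuotientGroup.quotientKerEquivOfSurjective θ hθ)⟩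

theorem sl {F : Type} [Field F] [Fintype F] (hF : Fintype.card F = 5 ∨ Fintype.card F = 9)
    (θ : G →* SL(2, F)) (hθ : Function.Surjective θ) : Good S := by
  classical
  obtain ⟨a, ha, ha'⟩ := CL.SL.exists_sq_ne_one_of_four_le_card (F := F)
    (by rw [Nat.card_eq_fintype_card]; omega)
  have : IsSimpleGroup PSL(2, F) :=
    CL.SL.psl_isSimpleGroup_of_perfect (CL.SL.commutator_eq_top_of_sq_ne_one ha ha')
  exact ⟨F, _, _, hF, m.iso (X := PSL(2, F)) ((QuotientGroup.mk' _).comp θ)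
    ((QuotientGroup.mk'_surjective _).comp hθ)⟩

theorem a5 (θ : G →* alternatingGroup (Fin 5)) (hθ : Function.Surjective θ) : Good S := by
  have := Fact.mk Nat.prime_five
  obtain ⟨e⟩ := Cfsg.Agent.S0253.result (F := ZMod 5) (ZMod.card 5)
  obtain ⟨e'⟩ := m.iso θ hθ
  exact ⟨ZMod 5, inferInstance, inferInstance, Or.inl (ZMod.card 5), ⟨e'.trans e.symm⟩⟩

theorem two (h : Two G) : Good S := by
  have := Fact.mk Nat.prime_five
  obtain ⟨Y, Y', _, _, _, _, π, π', s, s', k, -, -, o, o'⟩ := h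
  have key : ∀ {Y : Type v} [Group Y] (π : G →* Y), Function.Surjective π →
      (Group.IsSolvable Y ∨ Nonempty (Y ≃* SL(2, ZMod 5))) → (∀ x, π x = 1) ∨ Good S := fun π s o => by
    rcases o with o | ⟨⟨e⟩⟩
    · refine Or.inl fun x => mem_bot.1 ?_
      rw [← CL.KI.eq_bot_of_perfect_of_solvable (P := (⊤ : Subgroup _)) (by
        rw [← map_top_of_surjective π s, ← map_commutator, ← commutator_def, m.perf]) inferInstance]
      exact mem_top _
    · exact Or.inr (m.sl (Or.inl (ZMod.card 5)) (e.toMonoidHom.comp π) (e.surjective.comp s))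
  exact (key π s o).elim (fun a => (key π' s' o').resolve_left fun b => m.ker_ne
    (eq_top_iff.2 fun x _ => k x (a x) (b x) ▸ one_mem _)) id

end Mn

variable {D : Type*} [DivisionRing D] {V : Type*} [AddCommGroup V] [Module D V] {ρ : G →* End D V}

namespace Rep

variable [CharZero D] (h : Rep ρ)
include h

theorem not_simple (hs : IsSimpleGroup G) (nc : ¬ IsMulCommutative G) : False := by
  have zc : center G = ⊥ := (inferInstance : (center G).Normal).eq_bot_or_eq_top.resolve_right fun e =>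
    nc ⟨⟨fun a b => mem_center_iff.1 (e ▸ mem_top b) a⟩⟩
  have ns : ¬ Odd (Nat.card G) := fun e => nc ⟨⟨IsSimpleGroup.comm_iff_isSolvable.2
    (CL.isSolvable_of_odd G e)⟩⟩
  obtain ⟨z, hz⟩ := exists_prime_orderOf_dvd_card' 2 (even_iff_two_dvd.1 (Nat.not_odd_iff_even.1 ns))
  have := CL.BS.zstar_center (CL.BS.isolated_of_no_kleinFour (fun E hE => ?_) hz)
    ((inferInstance : (Cfsg.oddCore G).Normal).eq_bot_or_eq_top.resolve_right fun e =>
      ns (by simpa [e] using CL.Rec.odd_card_oddCore (G := G)))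
  · rw [zc, mem_bot] at this
    simp [this] at hz
  classical
  have := Finite.one_lt_card_iff_nontrivial.1 (show 1 < Nat.card E by rw [hE.card_four]; decide)
  obtain ⟨a, a1⟩ := exists_ne (1 : E)
  obtain ⟨b, hb⟩ : ∃ b : E, b ∉ ({1, a} : Finset E) := by
    by_contra! k
    have := Fintype.ofFinite E
    have := Finset.card_le_card (s := Finset.univ) fun b _ => k b
    rw [Finset.card_univ, ← Nat.card_eq_fintype_card, hE.card_four] at this
    exact absurd (this.trans Finset.card_le_two) (by decide)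
  simp only [Finset.mem_insert, Finset.mem_singleton, not_or] at hb
  have s : ∀ a : E, (a : G) ^ 2 = 1 := fun a => congrArg Subtype.val (sq a ▸ IsKleinFour.mul_self a)
  have n : ∀ a : E, ρ a = -1 → a = 1 := fun a e => Subtype.ext (mem_bot.1 (zc ▸ h.center_of e))
  rcases h.four (s a) (s b) (congrArg Subtype.val (mul_comm_of_exponent_two hE.exponent_two a b))
    (fun e => a1 (Subtype.ext e)) (fun e => hb.1 (Subtype.ext e)) (fun e => hb.2 (Subtype.ext e).symm)
    with e | e | e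
  · exact a1 (n a e)
  · exact hb.1 (n b e)
  · exact hb.2 (by
      rw [eq_inv_of_mul_eq_one_right (n (a * b) e), inv_eq_of_mul_eq_one_left (IsKleinFour.mul_self a)])

theorem ker_two {S : Type v} [Group S] {f : G →* S} (m : Mn f) (hi : Irr ρ) : IsPGroup 2 f.ker := by
  have := Fact.mk Nat.prime_two
  refine IsPGroup.of_card (Nat.eq_prime_pow_of_unique_prime_dvd Nat.card_pos.ne' fun {p} hp hd =>
    by_contra fun p2 => ?_)
  have := Fact.mk hp
  obtain ⟨Q⟩ : Nonempty (Sylow p f.ker) := inferInstance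
  have hQ : IsPGroup p ((Q : Subgroup f.ker).map f.ker.subtype) := Q.isPGroup'.map _
  have : ((Q : Subgroup f.ker).map f.ker.subtype).Normal := normalizer_eq_top_iff.1 (m.min _ (by
    have := congrArg (map f) Q.normalizer_sup_eq_top
    rwa [Subgroup.map_sup, (Subgroup.map_eq_bot_iff _).2 le_rfl, sup_bot_eq, map_top_of_surjective f m.sj] at this))
  obtain ⟨P, hP⟩ := hQ.exists_le_sylow
  refine Q.ne_bot_of_dvd_card hd (eq_bot_iff.2 fun x hx => mem_bot.2 (Subtype.ext ?_))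
  exact eq_one_of_center m.perf P (h.odd_comm hp p2 _ P.isPGroup') (hP ⟨x, hx, rfl⟩)
    ((h.cyclic_of_irr hi m.perf _ (h.odd_comm hp p2 _ hQ)).2 ⟨x, hx, rfl⟩)

omit [Finite G] in
theorem hK {z : G} (hz : ρ z = -1) : ∃ K : G → Subgroup G, ∀ t, t ^ 2 = 1 → t ∉ center G →
    t ∈ K t ∧ K t ≤ centralizer {t} ∧ K t ⊓ K (t * z) = ⊥ ∧
      (∀ g, K (g * t * g⁻¹) = (K t).map (MulAut.conj g).toMonoidHom) ∧
      (∀ c ∈ centralizer {t}, c ^ 2 ∈ K t → c ∈ K t ∨ c * z ∈ K t) ∧
      (∀ x y, x ∈ centralizer {t} → y ∈ centralizer {t} → x ^ 3 = 1 → y ^ 3 = 1 → Commute x y →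
        x ∈ K t ∨ y ∈ K t ∨ x * y ∈ K t ∨ x * y⁻¹ ∈ K t) := by
  refine ⟨fun t => centralizer {t} ⊓ Pt ρ (Fx ρ t), fun t ht tc => ?_⟩
  classical
  have t1 := h.Fx_ne_top (g := t) fun e => tc (e ▸ one_mem _)
  obtain ⟨-, f, hf, hn⟩ := h.line_hom (L := centralizer {t}) (h.nf ht tc) t1
    (inv_Fx fun g hg => (hg t rfl).symm)
  have : IsSimpleModule D (Fx ρ t) := isSimpleModule_iff_finrank_eq_one.2 (h.rk1 (h.nf ht tc) t1)
  have zc : z ∈ centralizer {t} := mem_centralizer_singleton_iff.2 (mem_center_iff.1 (h.center_of hz) t).symm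
  have hf' : ∀ x : centralizer {t}, f x = 1 → (x : G) ∈ centralizer {t} ⊓ Pt ρ (Fx ρ t) := fun x e =>
    ⟨x.2, (hf x).1 e⟩
  refine ⟨⟨mem_centralizer_singleton_iff.2 rfl, fun w hw => mem_Fx.1 hw⟩, inf_le_left,
    eq_bot_iff.2 fun x hx => h.pt_inf (h.compl_inv hz ht tc) ▸ ⟨hx.1.2, hx.2.2⟩, fun g => ?_,
    fun c hc e => ?_, fun x y hx hy x3 y3 e => ?_⟩
  · ext x
    rw [mem_map_equiv, MulAut.conj_symm_apply, mem_inf, mem_inf, mem_centralizer_singleton_iff,
      mem_centralizer_singleton_iff]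
    refine and_congr ⟨fun e => ?_, fun e => ?_⟩ ⟨fun e w hw => ?_, fun e w hw => ?_⟩
    · simpa [mul_assoc] using congrArg (fun y => g⁻¹ * y * g) e
    · simpa [mul_assoc] using congrArg (fun y => g * y * g⁻¹) e
    · rw [app_mul, app_mul, e _ ((fx_conj g t _).2 (by rwa [app_inv])), app_inv]
    · have := congrArg (ρ g) (e _ ((fx_conj g t _).1 hw))
      rwa [app_mul, app_mul, app_inv', app_inv'] at this
  · have := (hf (⟨c, hc⟩ * ⟨c, hc⟩)).2 (by simpa [sq] using e.2)
    rw [map_mul, mul_self_eq_one_iff] at this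
    exact this.imp (hf' _) fun e => hf' (⟨c, hc⟩ * ⟨z, zc⟩) (by rw [map_mul, e, hn _ hz]; ext; simp)
  · have k : ∀ x : centralizer {t}, (x : G) ^ 3 = 1 → f x ^ 3 = 1 := fun x e => by
      rw [← map_pow, show x ^ 3 = 1 from Subtype.ext e, map_one]
    refine (cube (a := f ⟨x, hx⟩) (b := f ⟨y, hy⟩) (by
      rw [← map_mul, ← map_mul]; exact congrArg f (Subtype.ext e.eq)) (k _ x3) (k _ y3)).imp (hf' _)
      (Or.imp (hf' _) (Or.imp (fun e => hf' (⟨x, hx⟩ * ⟨y, hy⟩) (by rwa [map_mul])) fun e =>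
        hf' (⟨x, hx⟩ * ⟨y, hy⟩⁻¹) (by rw [map_mul, e, ← map_mul, mul_inv_cancel, map_one])))

end Rep

end CL.DV
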